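import Mathlib

/-!
# Finiteness of normalisation for algebras of finite type over a field

`finite_integralClosure`: `A` a domain of finite type over a field, `L` finite over `Frac A`;
then the integral closure of `A` in `L` is a finite `A`-module (no separability hypothesis).
-/

set_option autoImplicit false

open MvPolynomial

namespace Groth.Agent.FinIntClosure

universe u v

variable {k : Type u} [Field k] {σ : Type} [Finite σ]

/-- purely inseparable case over a polynomial ring -/
theorem finite_of_isPurelyInseparable (E : Type v) [Field E] [Algebra (MvPolynomial σ k) E]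
    (F : Type*) [Field F] [Algebra (MvPolynomial σ k) F] [IsFractionRing (MvPolynomial σ k) F]
    [Algebra F E] [IsScalarTower (MvPolynomial σ k) F E] [FiniteDimensional F E]
    [IsPurelyInseparable F E] :
    Module.Finite (MvPolynomial σ k) (integralClosure (MvPolynomial σ k) E) := by
  classical
  obtain ⟨p, _⟩ := ExpChar.exists k
  haveI : ExpChar (MvPolynomial σ k) p :=
    expChar_of_injective_ringHom (MvPolynomial.C_injective σ k) p
  haveI : ExpChar F p :=
    expChar_of_injective_ringHom (IsFractionRing.injective (MvPolynomial σ k) F) p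
  haveI : ExpChar E p := expChar_of_injective_algebraMap (algebraMap F E).injective p
  set P := MvPolynomial σ k with hP
  -- generators of `E` over `F`
  let b := Module.finBasis F E
  have hb : ∀ i, ∃ n : ℕ, b i ^ p ^ n ∈ (algebraMap F E).range :=
    fun i => IsPurelyInseparable.pow_mem F p (b i)
  choose n hn using hb
  let N := Finset.univ.sum n
  have hbN : ∀ i, ∃ (a d : P), d ≠ 0 ∧ b i ^ p ^ N * algebraMap P E d = algebraMap P E a := by
    intro i
    have hle : n i ≤ N := Finset.single_le_sum (fun _ _ => Nat.zero_le _) (Finset.mem_univ i)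
    obtain ⟨c, hc⟩ := hn i
    obtain ⟨a, d, hd, hcd⟩ := IsFractionRing.div_surjective P (c ^ p ^ (N - n i))
    refine ⟨a, d, nonZeroDivisors.ne_zero hd, ?_⟩
    have hd' : algebraMap P F d ≠ 0 := IsLocalization.to_map_ne_zero_of_mem_nonZeroDivisors _ le_rfl hd
    rw [IsScalarTower.algebraMap_apply P F E d, IsScalarTower.algebraMap_apply P F E a,
      ← Nat.add_sub_cancel' hle, pow_add, pow_mul, ← hc, ← map_pow, ← map_mul,
      ← hcd, div_mul_cancel₀ _ hd']
  choose a d hd had using hbN
  let φ : P →+* P := iterateFrobenius P p N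
  let φk : k →+* k := iterateFrobenius k p N
  -- the field of coefficients
  let cs : Finset k := Finset.univ.biUnion fun i => (a i).support.image (fun m => coeff m (a i)) ∪
    (d i).support.image (fun m => coeff m (d i))
  let k₀ : Subfield k := φk.fieldRange
  let K₁ : IntermediateField k₀ k := IntermediateField.adjoin k₀ (cs : Set k)
  have halg : ∀ x ∈ (cs : Set k), IsAlgebraic k₀ x := by
    intro x _
    refine IsIntegral.isAlgebraic (IsIntegral.of_pow (n := p ^ N) (pow_pos (expChar_pos k p) N) ?_)
    exact isIntegral_algebraMap (x := (⟨x ^ p ^ N, x, iterateFrobenius_def p N x⟩ : k₀))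
  -- polynomials with coefficients in `K₁`
  let P₁ : Subring P := (MvPolynomial.map (σ := σ) K₁.val.toRingHom).range
  have memP₁ : ∀ f : P, (∀ m, coeff m f ∈ K₁) → f ∈ P₁ := by
    intro f hf
    rw [f.as_sum]
    refine Subring.sum_mem _ fun m _ => ?_
    exact ⟨monomial m ⟨_, hf m⟩, by rw [map_monomial]; rfl⟩
  have haP : ∀ i, a i ∈ P₁ ∧ d i ∈ P₁ := by
    intro i
    have key : ∀ (q : P), (∀ m ∈ q.support, coeff m q ∈ cs) → q ∈ P₁ := fun q hq =>
      memP₁ q fun m => by
        by_cases hm : coeff m q = 0
        · rw [hm]; exact zero_mem _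
        · exact IntermediateField.subset_adjoin _ _ (hq m (MvPolynomial.mem_support_iff.mpr hm))
    constructor <;> refine key _ fun m hm => ?_
    · exact Finset.mem_biUnion.mpr ⟨i, Finset.mem_univ i,
        Finset.mem_union_left _ (Finset.mem_image_of_mem _ hm)⟩
    · exact Finset.mem_biUnion.mpr ⟨i, Finset.mem_univ i,
        Finset.mem_union_right _ (Finset.mem_image_of_mem _ hm)⟩
  have hφP : ∀ f : P, φ f ∈ P₁ := by
    intro f
    induction f using MvPolynomial.induction_on with
    | C c =>
      refine memP₁ _ fun m => ?_
      rw [show φ (C c) = C (c ^ p ^ N) from (iterateFrobenius_def p N _).trans (map_pow C c _).symm,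
        coeff_C]
      split_ifs
      · exact K₁.algebraMap_mem (⟨_, c, iterateFrobenius_def p N c⟩ : k₀)
      · exact zero_mem _
    | add f g hf hg => rw [map_add]; exact add_mem hf hg
    | mul_X f i hf =>
      rw [map_mul]
      refine mul_mem hf ?_
      rw [show φ (X i) = X i ^ p ^ N from iterateFrobenius_def p N _]
      exact pow_mem (show (X i : P) ∈ P₁ from ⟨X i, map_X _ _⟩) _
  -- `P₁` is finite over `P` acting through Frobenius
  letI algφ : Algebra P P₁ := (φ.codRestrict P₁ hφP).toAlgebra
  haveI : Module.Finite P P₁ := by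
    let gX : σ → P₁ := fun i => ⟨X i, X i, map_X _ _⟩
    let gC : cs → P₁ := fun c => ⟨C (c : k), C (⟨c, IntermediateField.subset_adjoin _ _ c.2⟩ : K₁),
      map_C _ _⟩
    let S : Set P₁ := Set.range gX ∪ Set.range gC
    have hS : S.Finite := (Set.finite_range _).union (Set.finite_range _)
    have hSi : ∀ x ∈ S, IsIntegral P x := by
      intro x _
      refine IsIntegral.of_pow (n := p ^ N) (pow_pos (expChar_pos k p) N) ?_
      have : x ^ p ^ N = algebraMap P P₁ (x : P) := Subtype.ext (iterateFrobenius_def p N (x : P)).symm
      rw [this]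
      exact isIntegral_algebraMap
    have htop : Algebra.adjoin P S = ⊤ := by
      refine eq_top_iff.mpr fun x _ => ?_
      obtain ⟨y, hy⟩ := x.2
      let ψ : MvPolynomial σ K₁ →+* P₁ := (MvPolynomial.map K₁.val.toRingHom).rangeRestrict
      suffices h : ∀ y, ψ y ∈ Algebra.adjoin P S by
        rw [← show ψ y = x from Subtype.ext hy]; exact h y
      intro y
      induction y using MvPolynomial.induction_on with
      | add f g hf hg => rw [map_add]; exact add_mem hf hg
      | mul_X f i hf =>
        rw [map_mul]
        refine mul_mem hf (Algebra.subset_adjoin (Or.inl ⟨i, Subtype.ext ?_⟩))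
        exact (map_X _ _).symm
      | C c =>
        obtain ⟨c, hc⟩ := c
        have hc' : c ∈ Algebra.adjoin k₀ (cs : Set k) := by
          rw [← IntermediateField.adjoin_toSubalgebra_of_isAlgebraic halg]; exact hc
        have hgen : ∀ x ∈ Algebra.adjoin k₀ (cs : Set k), ∃ z : P₁, z ∈ Algebra.adjoin P S ∧ (z : P) = C x := by
          intro x hx
          induction hx using Algebra.adjoin_induction with
          | mem x hx => exact ⟨gC ⟨x, hx⟩, Algebra.subset_adjoin (Or.inr ⟨⟨x, hx⟩, rfl⟩), rfl⟩
          | algebraMap r =>
            obtain ⟨s, hs⟩ := r.2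
            refine ⟨algebraMap P P₁ (C s), Subalgebra.algebraMap_mem _ _, ?_⟩
            change φ (C s) = C (r : k)
            rw [show φ (C s) = C (s ^ p ^ N) from (iterateFrobenius_def p N _).trans (map_pow C s _).symm,
              ← hs]
            rfl
          | add x y _ _ ihx ihy =>
            obtain ⟨z, hz, hz'⟩ := ihx
            obtain ⟨w, hw, hw'⟩ := ihy
            exact ⟨z + w, add_mem hz hw, by rw [Subring.coe_add, hz', hw', map_add]⟩
          | mul x y _ _ ihx ihy =>
            obtain ⟨z, hz, hz'⟩ := ihx
            obtain ⟨w, hw, hw'⟩ := ihy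
            exact ⟨z * w, mul_mem hz hw, by rw [Subring.coe_mul, hz', hw', map_mul]⟩
        obtain ⟨z, hz, hz'⟩ := hgen c hc'
        refine (show ψ _ = z from Subtype.ext ?_) ▸ hz
        exact (map_C _ _).trans hz'.symm
    exact ⟨(Algebra.top_toSubmodule (R := P) (A := P₁)) ▸ htop ▸ fg_adjoin_of_finite hS hSi⟩
  haveI : IsNoetherian P P₁ := isNoetherian_of_isNoetherianRing_of_finite P P₁
  -- elements of the integral closure
  have hinjE : Function.Injective (algebraMap P E) := by
    rw [IsScalarTower.algebraMap_eq P F E]
    exact (algebraMap F E).injective.comp (IsFractionRing.injective P F)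
  have key : ∀ e : integralClosure P E, ∃ f : P₁, algebraMap P E (f : P) = (e : E) ^ p ^ N := by
    intro e
    let D : P := ∏ i, d i
    have hF : ∀ c : F, ∃ u v : P, u ∈ P₁ ∧ v ∈ P₁ ∧ v ≠ 0 ∧
        algebraMap F E (c ^ p ^ N) * algebraMap P E v = algebraMap P E u := by
      intro c
      obtain ⟨u, v, hv, rfl⟩ := IsFractionRing.div_surjective P c
      have hv' : algebraMap P F v ≠ 0 :=
        IsLocalization.to_map_ne_zero_of_mem_nonZeroDivisors _ le_rfl hv
      refine ⟨φ u, φ v, hφP u, hφP v, ?_, ?_⟩
      · rw [show φ v = v ^ p ^ N from iterateFrobenius_def p N v]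
        exact pow_ne_zero _ (nonZeroDivisors.ne_zero hv)
      · rw [show φ v = v ^ p ^ N from iterateFrobenius_def p N v,
          show φ u = u ^ p ^ N from iterateFrobenius_def p N u,
          IsScalarTower.algebraMap_apply P F E (v ^ p ^ N), IsScalarTower.algebraMap_apply P F E (u ^ p ^ N),
          ← map_mul, map_pow, map_pow, ← mul_pow, div_mul_cancel₀ _ hv']
    choose u v hu hv hv0 huv using hF
    let c := fun i => b.repr (e : E) i
    let V : P := ∏ i, (v (c i) * d i)
    have hsum : ∀ i, ∃ w ∈ P₁, algebraMap P E V * (c i • b i) ^ p ^ N = algebraMap P E w := by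
      intro i
      refine ⟨(∏ j ∈ Finset.univ.erase i, (v (c j) * d j)) * (u (c i) * a i),
        mul_mem (prod_mem fun j _ => mul_mem (hv _) (haP j).2) (mul_mem (hu _) (haP i).1), ?_⟩
      have hV : V = (∏ j ∈ Finset.univ.erase i, (v (c j) * d j)) * (v (c i) * d i) :=
        (Finset.prod_erase_mul _ _ (Finset.mem_univ i)).symm
      rw [hV, Algebra.smul_def, mul_pow, ← map_pow]
      simp only [map_mul, ← huv, ← had]
      ring
    choose w hw hw' using hsum
    have hVe : algebraMap P E V * (e : E) ^ p ^ N = algebraMap P E (∑ i, w i) := by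
      conv_lhs => rw [← b.sum_repr (e : E)]
      rw [sum_pow_char_pow p N, Finset.mul_sum, map_sum]
      exact Finset.sum_congr rfl fun i _ => hw' i
    -- `e ^ q` lies in `P`
    have heF : ∃ f : P, algebraMap P E f = (e : E) ^ p ^ N := by
      have hV0 : V ≠ 0 := Finset.prod_ne_zero_iff.mpr fun i _ => mul_ne_zero (hv0 _) (hd i)
      let z : F := algebraMap P F (∑ i, w i) / algebraMap P F V
      have hz : algebraMap F E z = (e : E) ^ p ^ N := by
        have hV' : algebraMap P E V ≠ 0 := (map_ne_zero_iff _ hinjE).mpr hV0
        rw [map_div₀, ← IsScalarTower.algebraMap_apply, ← IsScalarTower.algebraMap_apply, ← hVe,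
          mul_div_cancel_left₀ _ hV']
      have : IsIntegral P z :=
        (isIntegral_algebraMap_iff (algebraMap F E).injective).mp (hz ▸ e.2.pow _)
      obtain ⟨f, hf⟩ := (IsIntegrallyClosed.isIntegral_iff).mp this
      exact ⟨f, by rw [IsScalarTower.algebraMap_apply P F E, hf, hz]⟩
    obtain ⟨f, hf⟩ := heF
    refine ⟨⟨f, ?_⟩, hf⟩
    have hfV : f * V = ∑ i, w i := hinjE (by rw [map_mul, hf, mul_comm, hVe])
    obtain ⟨V₁, hV₁⟩ : V ∈ P₁ := prod_mem fun i _ => mul_mem (hv _) (haP i).2
    obtain ⟨W₁, hW₁⟩ : (∑ i, w i) ∈ P₁ := Subring.sum_mem _ fun i _ => hw i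
    -- project the coefficients
    obtain ⟨π, hπ⟩ := (Algebra.linearMap K₁ k).exists_leftInverse_of_injective
      (LinearMap.ker_eq_bot.mpr (algebraMap K₁ k).injective)
    have hπ' : ∀ x : K₁, π (x : k) = x := fun x => LinearMap.congr_fun hπ x
    let f₁ : MvPolynomial σ K₁ := ∑ m ∈ f.support, monomial m (π (coeff m f))
    have hf₁ : ∀ m, coeff m f₁ = π (coeff m f) := by
      intro m
      simp only [f₁, coeff_sum, coeff_monomial]
      rw [Finset.sum_ite_eq']
      split_ifs with h
      · rfl
      · rw [MvPolynomial.notMem_support_iff.mp h, map_zero]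
    have h1 : f₁ * V₁ = W₁ := by
      refine MvPolynomial.ext _ _ fun m => ?_
      have h2 : ((coeff m W₁ : K₁) : k) =
          ∑ x ∈ Finset.HasAntidiagonal.antidiagonal m, coeff x.1 f * ((coeff x.2 V₁ : K₁) : k) := by
        have := congrArg (coeff m) hfV
        rw [← hV₁, ← hW₁, coeff_map, coeff_mul] at this
        simp only [coeff_map] at this
        exact this.symm
      rw [← hπ' (coeff m W₁), h2, map_sum, coeff_mul]
      refine Finset.sum_congr rfl fun x _ => ?_
      rw [hf₁, mul_comm (coeff x.1 f), mul_comm]
      exact (π.map_smul (coeff x.2 V₁) (coeff x.1 f)).symm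
    refine ⟨f₁, ?_⟩
    have hV0 : V ≠ 0 := Finset.prod_ne_zero_iff.mpr fun i _ => mul_ne_zero (hv0 _) (hd i)
    refine mul_right_cancel₀ hV0 ?_
    rw [hfV, ← hV₁, ← map_mul, h1, hW₁]
  choose g hg using key
  let Λ : integralClosure P E →ₗ[P] P₁ :=
    { toFun := g
      map_add' := fun x y => Subtype.ext (hinjE (by
        simp only [Subring.coe_add, map_add, hg, Subalgebra.coe_add,
          add_pow_expChar_pow]))
      map_smul' := fun r x => Subtype.ext (hinjE (by
        change algebraMap P E (g (r • x) : P) = algebraMap P E (φ r * (g x : P))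
        rw [map_mul, hg, hg, show φ r = r ^ p ^ N from iterateFrobenius_def p N r, map_pow]
        rw [Algebra.smul_def, ← mul_pow]
        rfl)) }
  refine Module.Finite.of_injective Λ fun x y h => Subtype.ext ?_
  have := congrArg (fun z : P₁ => algebraMap P E (z : P)) h
  simp only [Λ, LinearMap.coe_mk, AddHom.coe_mk, hg] at this
  exact (iterateFrobenius_inj E p N) (by simpa [iterateFrobenius_def] using this)

/-- polynomial base -/
theorem finite_mvPolynomial (L : Type v) [Field L] [Algebra (MvPolynomial σ k) L]
    (F : Type*) [Field F] [Algebra (MvPolynomial σ k) F] [IsFractionRing (MvPolynomial σ k) F]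
    [Algebra F L] [IsScalarTower (MvPolynomial σ k) F L] [FiniteDimensional F L] :
    Module.Finite (MvPolynomial σ k) (integralClosure (MvPolynomial σ k) L) := by
  set P := MvPolynomial σ k with hP
  let Ω := AlgebraicClosure L
  let L' := IntermediateField.normalClosure F L Ω
  haveI : Normal F Ω := normal_iff.mpr fun x =>
    ⟨(IsAlgClosure.isAlgebraic (R := L) (K := Ω)).isIntegral.1 x |> fun h =>
      isIntegral_trans x h, IsAlgClosed.splits _⟩
  haveI : Normal F L' := inferInstance
  haveI : FiniteDimensional F L' := inferInstance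
  let j : L →ₐ[F] L' := (IsScalarTower.toAlgHom F L Ω).codRestrict L'.toSubalgebra
    fun x => (IsScalarTower.toAlgHom F L Ω).fieldRange_le_normalClosure ⟨x, rfl⟩
  suffices h : Module.Finite P (integralClosure P L') by
    haveI := h
    haveI : IsNoetherian P (integralClosure P L') := isNoetherian_of_isNoetherianRing_of_finite _ _
    let ι : integralClosure P L →ₗ[P] integralClosure P L' :=
      ((j.restrictScalars P).mapIntegralClosure).toLinearMap
    exact Module.Finite.of_injective ι fun x y h => Subtype.ext (j.toRingHom.injective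
      (congrArg Subtype.val h))
  let E : IntermediateField F L' := IntermediateField.fixedField (⊤ : Subgroup Gal(L'/F))
  haveI : IsGalois E L' := IsGalois.of_fixed_field L' (⊤ : Subgroup Gal(L'/F))
  haveI : IsPurelyInseparable F E := by
    rw [isPurelyInseparable_iff_natSepDegree_eq_one]
    intro x
    classical
    rw [← minpoly.algebraMap_eq (algebraMap E L').injective x,
      Polynomial.natSepDegree_eq_of_splits (E := L') _ (Normal.splits inferInstance _)]
    refine Finset.card_eq_one.mpr ⟨algebraMap E L' x, ?_⟩
    ext y
    have hi : IsIntegral F (algebraMap E L' x) := Algebra.IsIntegral.isIntegral _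
    simp only [Multiset.mem_toFinset, Polynomial.mem_aroots, Finset.mem_singleton]
    refine ⟨fun ⟨_, hy⟩ => ?_, ?_⟩
    · obtain ⟨σ', hσ⟩ := minpoly.exists_algEquiv_of_root' hi.isAlgebraic hy
      rw [← hσ]
      exact x.2 ⟨σ', trivial⟩
    · rintro rfl
      exact ⟨minpoly.ne_zero hi, minpoly.aeval _ _⟩
  haveI : IsScalarTower P E L' := IsScalarTower.to₁₃₄ P F E L'
  haveI : Module.Finite P (integralClosure P E) :=
    finite_of_isPurelyInseparable E F
  -- the separable step
  let C := integralClosure P E
  haveI : IsNoetherianRing C := Algebra.FiniteType.isNoetherianRing P C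
  haveI : IsFractionRing C E := integralClosure.isFractionRing_of_finite_extension F E
  haveI : IsIntegrallyClosed C := integralClosure.isIntegrallyClosedOfFiniteExtension F
  haveI : Module.Finite C (integralClosure C L') :=
    IsIntegralClosure.finite C E L' (integralClosure C L')
  haveI : Module.Finite P (integralClosure C L') := Module.Finite.trans C _
  haveI : IsNoetherian P (integralClosure C L') := isNoetherian_of_isNoetherianRing_of_finite _ _
  let ι : integralClosure P L' →ₗ[P] integralClosure C L' :=
    { toFun := fun x => ⟨x, x.2.tower_top⟩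
      map_add' := fun _ _ => rfl
      map_smul' := fun _ _ => rfl }
  exact Module.Finite.of_injective ι fun x y h => Subtype.ext
    (congrArg (fun z : integralClosure C L' => (z : L')) h)

/-- The integral closure of a domain of finite type over a field in a finite extension of its
fraction field is a finite module. -/
theorem finite_integralClosure (k : Type u) [Field k] (A : Type v) [CommRing A] [IsDomain A]
    [Algebra k A] [Algebra.FiniteType k A] (K : Type*) [Field K] [Algebra A K] [IsFractionRing A K]
    (L : Type*) [Field L] [Algebra K L] [FiniteDimensional K L] [Algebra A L] [IsScalarTower A K L] :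
    Module.Finite A (integralClosure A L) := by
  obtain ⟨s, g, hg, hfin⟩ := exists_finite_inj_algHom_of_fg k A
  let P := MvPolynomial (Fin s) k
  letI : Algebra P A := g.toRingHom.toAlgebra
  haveI : Module.Finite P A := hfin
  letI : Algebra P K := ((algebraMap A K).comp (algebraMap P A)).toAlgebra
  haveI : IsScalarTower P A K := IsScalarTower.of_algebraMap_eq' rfl
  letI : Algebra P L := ((algebraMap A L).comp (algebraMap P A)).toAlgebra
  haveI : IsScalarTower P A L := IsScalarTower.of_algebraMap_eq' rfl
  haveI : IsScalarTower P K L := IsScalarTower.of_algebraMap_eq' (by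
    rw [RingHom.algebraMap_toAlgebra, IsScalarTower.algebraMap_eq A K L, RingHom.comp_assoc]; rfl)
  have hPL : Function.Injective (algebraMap P L) := by
    rw [RingHom.algebraMap_toAlgebra, IsScalarTower.algebraMap_eq A K L, RingHom.coe_comp,
      RingHom.coe_comp]
    exact ((algebraMap K L).injective.comp (IsFractionRing.injective A K)).comp hg
  have hPK : Function.Injective (algebraMap P K) := (IsFractionRing.injective A K).comp hg
  let F := FractionRing P
  letI : Algebra F K := (IsFractionRing.lift hPK).toAlgebra
  letI : Algebra F L := ((algebraMap K L).comp (algebraMap F K)).toAlgebra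
  haveI : IsScalarTower F K L := IsScalarTower.of_algebraMap_eq' rfl
  haveI : IsScalarTower P F K := IsScalarTower.of_algebraMap_eq fun x =>
    (IsFractionRing.lift_algebraMap hPK x).symm
  haveI : IsScalarTower P F L := IsScalarTower.of_algebraMap_eq fun x => by
    rw [IsScalarTower.algebraMap_apply P K L, IsScalarTower.algebraMap_apply P F K,
      IsScalarTower.algebraMap_apply F K L]
  haveI : IsLocalization (Algebra.algebraMapSubmonoid A (nonZeroDivisors P)) K := by
    refine (IsLocalization.iff_of_le_of_exists_dvd _ (nonZeroDivisors A) ?_ fun a ha => ?_).mpr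
      inferInstance
    · rintro _ ⟨x, hx, rfl⟩
      exact mem_nonZeroDivisors_of_ne_zero ((map_ne_zero_iff _ hg).mpr (nonZeroDivisors.ne_zero hx))
    · obtain ⟨x, hx, hd⟩ := ((Algebra.IsIntegral.isIntegral a).isAlgebraic (R := P)).exists_nonzero_dvd ha
      exact ⟨algebraMap P A x, ⟨x, mem_nonZeroDivisors_of_ne_zero hx, rfl⟩, hd⟩
  haveI : FiniteDimensional F K :=
    Module.Finite.of_isLocalizedModule (nonZeroDivisors P) (IsScalarTower.toAlgHom P A K).toLinearMap
  haveI : FiniteDimensional F L := FiniteDimensional.trans F K L
  haveI := finite_mvPolynomial (k := k) (σ := Fin s) L F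
  -- the same set
  let ι : integralClosure A L →ₗ[P] integralClosure P L :=
    { toFun := fun x => ⟨x, isIntegral_trans (R := P) _ x.2⟩
      map_add' := fun _ _ => rfl
      map_smul' := fun _ _ => rfl }
  haveI : IsNoetherian P (integralClosure P L) := isNoetherian_of_isNoetherianRing_of_finite _ _
  haveI : Module.Finite P (integralClosure A L) := Module.Finite.of_injective ι fun x y h =>
    Subtype.ext (congrArg (fun z : integralClosure P L => (z : L)) h)
  exact Module.Finite.of_restrictScalars_finite P A _

end Groth.Agent.FinIntClosure
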