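import Mathlib
import Groth.Agent.FinIntClosure.Basic

/-!
# Normalisation of an integral scheme in a finite extension of its function field
-/

set_option autoImplicit false
set_option backward.isDefEq.respectTransparency false
set_option backward.defeqAttrib.useBackward true

universe u

open CategoryTheory AlgebraicGeometry TopologicalSpace Opposite

namespace Groth.Agent.FinIntClosure

variable {X : Scheme.{u}} [IsIntegral X] {K : Type u} [Field K] (φ : X.functionField →+* K)
  (g : Spec (CommRingCat.of K) ⟶ X)
  (hg : g = Spec.map (CommRingCat.ofHom φ) ≫ X.fromSpecStalk (genericPoint X))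

include hg in
lemma preimage_eq_top (U : X.Opens) [Nonempty U] : g ⁻¹ᵁ U = ⊤ := by
  refine eq_top_iff.mpr fun p _ => ?_
  change g p ∈ U
  rw [hg, Scheme.Hom.comp_apply]
  have : Spec.map (CommRingCat.ofHom φ) p =
      IsLocalRing.closedPoint (X.presheaf.stalk (genericPoint X)) :=
    haveI : Subsingleton (PrimeSpectrum X.functionField) := inferInstance
    Subsingleton.elim (α := PrimeSpectrum X.functionField) _ _
  rw [this]
  erw [Scheme.fromSpecStalk_closedPoint]
  exact (genericPoint_spec X).mem_open_set_iff U.isOpen |>.mpr (by simpa using ‹Nonempty U›)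

include hg in
lemma app_eq (U : X.Opens) [Nonempty U] :
    g.app U = X.germToFunctionField U ≫ CommRingCat.ofHom φ ≫ (Scheme.ΓSpecIso (CommRingCat.of K)).inv ≫
      (Spec (CommRingCat.of K)).presheaf.map (homOfLE (le_top (a := g ⁻¹ᵁ U))).op := by
  subst hg
  have hm : genericPoint X ∈ U :=
    (genericPoint_spec X).mem_open_set_iff U.isOpen |>.mpr (by simpa using ‹Nonempty U›)
  rw [Scheme.Hom.comp_app, Scheme.fromSpecStalk_app hm]
  simp only [Category.assoc]
  erw [Scheme.Hom.naturality]
  erw [← Scheme.ΓSpecIso_inv_naturality_assoc]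
  rfl

/-- the sections of `Spec K` over the inverse image of a nonempty open -/
noncomputable def fieldEquiv (U : X.Opens) [Nonempty U] : K ≃+* Γ(Spec (CommRingCat.of K), g ⁻¹ᵁ U) :=
  haveI : IsIso ((Spec (CommRingCat.of K)).presheaf.map (homOfLE (le_top (a := g ⁻¹ᵁ U))).op) := by
    rw [Subsingleton.elim (homOfLE (le_top (a := g ⁻¹ᵁ U))) (eqToHom (preimage_eq_top φ g hg U)),
      eqToHom_op, eqToHom_map]
    infer_instance
  ((Scheme.ΓSpecIso (CommRingCat.of K)).symm ≪≫
    asIso ((Spec (CommRingCat.of K)).presheaf.map (homOfLE (le_top (a := g ⁻¹ᵁ U))).op)).commRingCatIsoToRingEquiv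

variable (k : Type u) [Field k] (q : X ⟶ Spec (CommRingCat.of k)) [LocallyOfFiniteType q]

include hg q in
/-- over a nonempty affine open the normalisation is the spectrum of a finite, integrally closed domain -/
theorem affine_part (hφ : φ.Finite) (U : X.Opens) [Nonempty U] (hU : IsAffineOpen U) :
    letI := (g.app U).hom.toAlgebra
    let L := Γ(Spec (CommRingCat.of K), g ⁻¹ᵁ U)
    Function.Injective (g.app U).hom ∧ IsDomain L ∧
      Module.Finite Γ(X, U) (integralClosure Γ(X, U) L) ∧
        IsIntegrallyClosed (integralClosure Γ(X, U) L) := by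
  letI algL : Algebra Γ(X, U) Γ(Spec (CommRingCat.of K), g ⁻¹ᵁ U) := (g.app U).hom.toAlgebra
  intro L
  let A := Γ(X, U)
  let ε : K ≃+* L := fieldEquiv φ g hg U
  letI fL : Field L := (MulEquiv.isField (Field.toIsField K) ε.symm.toMulEquiv).toField
  haveI : IsFractionRing A X.functionField := functionField_isFractionRing_of_isAffineOpen X U hU
  letI algF : Algebra X.functionField L := (ε.toRingHom.comp φ).toAlgebra
  haveI : IsScalarTower A X.functionField L := IsScalarTower.of_algebraMap_eq fun a => by
    change (g.app U) a = ε (φ (X.germToFunctionField U a))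
    rw [app_eq φ g hg U]
    rfl
  haveI : FiniteDimensional X.functionField L := by
    have : (ε.toRingHom.comp φ).Finite :=
      RingHom.Finite.comp (RingHom.Finite.of_surjective ε.toRingHom ε.surjective) hφ
    exact this
  have hft : (q.appLE ⊤ U (by simp)).hom.FiniteType :=
    q.finiteType_appLE (isAffineOpen_top _) hU _
  let Γk := Γ(Spec (CommRingCat.of k), ⊤)
  letI : Algebra k A :=
    ((q.appLE ⊤ U (by simp)).hom.comp (Scheme.ΓSpecIso (CommRingCat.of k)).inv.hom).toAlgebra
  haveI : Algebra.FiniteType k A := by
    have h2 : (Scheme.ΓSpecIso (CommRingCat.of k)).inv.hom.FiniteType := by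
      refine RingHom.FiniteType.of_surjective _ ?_
      exact (Scheme.ΓSpecIso (CommRingCat.of k)).symm.commRingCatIsoToRingEquiv.surjective
    exact RingHom.FiniteType.comp hft h2
  refine ⟨?_, inferInstance, finite_integralClosure k A X.functionField L,
    integralClosure.isIntegrallyClosedOfFiniteExtension (K := X.functionField)⟩
  change Function.Injective (algebraMap A L)
  rw [IsScalarTower.algebraMap_eq A X.functionField L]
  exact (algebraMap X.functionField L).injective.comp (IsFractionRing.injective A X.functionField)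

include hg q in
theorem isFinite_fromNormalization (hφ : φ.Finite) [QuasiCompact g] [QuasiSeparated g] :
    IsFinite g.fromNormalization := by
  refine { finite_app := fun U hU => ?_ }
  rw [g.fromNormalization_app hU]
  letI := (g.app U).hom.toAlgebra
  rw [CommRingCat.hom_comp]
  refine RingHom.Finite.comp (RingHom.Finite.of_surjective _
    (g.normalizationObjIso hU).symm.commRingCatIsoToRingEquiv.surjective) ?_
  rw [CommRingCat.hom_ofHom, RingHom.finite_algebraMap]
  rcases isEmpty_or_nonempty U with hUe | hUne
  · haveI : Subsingleton Γ(Spec (CommRingCat.of K), g ⁻¹ᵁ U) := by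
      have : g ⁻¹ᵁ U = ⊥ := by
        rw [show U = ⊥ from Opens.ext (Set.isEmpty_coe_sort.mp hUe)]; rfl
      rw [this]; infer_instance
    infer_instance
  · exact (affine_part φ g hg k q hφ U hU).2.2.1

include hg q in
theorem stalk_normalization (hφ : φ.Finite) [QuasiCompact g] [QuasiSeparated g]
    (hX : ∀ x : X, IsClosed ({x} : Set X) → ringKrullDim (X.presheaf.stalk x) = 1)
    (y : g.normalization) :
    (IsDomain (g.normalization.presheaf.stalk y) ∧ IsIntegrallyClosed (g.normalization.presheaf.stalk y)) ∧
      (IsClosed ({y} : Set g.normalization) → ringKrullDim (g.normalization.presheaf.stalk y) = 1) := by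
  obtain ⟨_, ⟨U, hU, rfl⟩, hyU, -⟩ :=
    X.isBasis_affineOpens.exists_subset_of_mem_open (Set.mem_univ (g.fromNormalization y)) isOpen_univ
  haveI : Nonempty U := ⟨⟨_, hyU⟩⟩
  letI algL := (g.app U).hom.toAlgebra
  obtain ⟨hinj, hdom, hfin, hic⟩ := affine_part φ g hg k q hφ U hU
  let A := Γ(X, U)
  let C := integralClosure A Γ(Spec (CommRingCat.of K), g ⁻¹ᵁ U)
  haveI : IsDomain C := inferInstance
  let V := g.fromNormalization ⁻¹ᵁ U
  have hV : IsAffineOpen V := hU.preimage _
  let e : Γ(g.normalization, V) ≃+* C := (g.normalizationObjIso hU).commRingCatIsoToRingEquiv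
  haveI : IsDomain Γ(g.normalization, V) := e.toMulEquiv.isDomain C
  haveI : IsIntegrallyClosed Γ(g.normalization, V) := IsIntegrallyClosed.of_equiv e.symm
  let Q := hV.primeIdealOf ⟨y, hyU⟩
  letI := g.normalization.presheaf.algebra_section_stalk (⟨y, hyU⟩ : V)
  haveI := hV.isLocalization_stalk ⟨y, hyU⟩
  have hQle : Q.asIdeal.primeCompl ≤ nonZeroDivisors Γ(g.normalization, V) :=
    Q.asIdeal.primeCompl_le_nonZeroDivisors
  haveI : IsDomain (g.normalization.presheaf.stalk y) :=
    IsLocalization.isDomain_of_le_nonZeroDivisors _ hQle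
  refine ⟨⟨inferInstance, isIntegrallyClosed_of_isLocalization _ Q.asIdeal.primeCompl hQle⟩, fun hy => ?_⟩
  haveI := isFinite_fromNormalization φ g hg k q hφ
  haveI : JacobsonSpace X := LocallyOfFiniteType.jacobsonSpace q
  haveI : IsLocallyNoetherian X := LocallyOfFiniteType.isLocallyNoetherian q
  haveI : IsLocallyNoetherian g.normalization :=
    LocallyOfFiniteType.isLocallyNoetherian g.fromNormalization
  haveI : IsNoetherianRing A := IsLocallyNoetherian.component_noetherian ⟨U, hU⟩
  haveI : IsNoetherianRing Γ(g.normalization, V) := IsLocallyNoetherian.component_noetherian ⟨V, hV⟩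
  -- `A` has dimension one
  have hA : ∀ P : Ideal A, P.IsPrime → P ≠ ⊥ → P.IsMaximal := by
    intro P hP hP0
    obtain ⟨m, hm, hPm⟩ := Ideal.exists_le_maximal P hP.ne_top
    let mp : PrimeSpectrum A := ⟨m, hm.isPrime⟩
    let x : X := hU.fromSpec mp
    have hxU : x ∈ U := SetLike.mem_coe.mp (hU.range_fromSpec.subset ⟨mp, rfl⟩)
    have hxc : IsClosed ({x} : Set X) := by
      refine (isClosed_singleton_of_isLocallyClosed_singleton ?_)
      have h1 : IsClosed ({mp} : Set (PrimeSpectrum A)) :=
        (PrimeSpectrum.isClosed_singleton_iff_isMaximal mp).mpr hm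
      have := h1.isLocallyClosed.image hU.fromSpec.isOpenEmbedding.isInducing
        (hU.fromSpec.isOpenEmbedding.isOpen_range.isLocallyClosed)
      rwa [Set.image_singleton] at this
    letI := X.presheaf.algebra_section_stalk (⟨x, hxU⟩ : U)
    haveI := hU.isLocalization_stalk' mp hxU
    have hd : m.height = 1 := by
      have h := IsLocalization.AtPrime.ringKrullDim_eq_height m (X.presheaf.stalk x)
      rw [hX x hxc] at h
      exact_mod_cast h.symm
    by_contra hne
    have hlt : P < m := hPm.lt_of_ne fun h => hne (h ▸ hm)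
    haveI := hP
    haveI := hm.isPrime
    have h1 : (⊥ : Ideal A).height < P.height :=
      Ideal.height_strict_mono_of_isPrime (bot_lt_iff_ne_bot.mpr hP0)
    have h2 : P.height < m.height := Ideal.height_strict_mono_of_isPrime hlt
    rw [hd] at h2
    exact absurd (lt_of_le_of_lt bot_le h1) (not_lt.mpr (Order.lt_one_iff.mp h2).le)
  -- hence so has `C`, and it is not a field
  have hC : ∀ P : Ideal Γ(g.normalization, V), P.IsPrime → P ≠ ⊥ → P.IsMaximal := by
    intro P hP hP0
    let P' : Ideal C := P.comap e.symm.toRingHom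
    haveI : P'.IsPrime := Ideal.IsPrime.comap _
    have hP' : P' ≠ ⊥ := fun h => hP0 (by
      rw [← Ideal.map_comap_of_surjective e.symm.toRingHom e.symm.surjective P]
      exact (congrArg (Ideal.map e.symm.toRingHom) h).trans Ideal.map_bot)
    have := hA _ (Ideal.IsPrime.under A P') (Ideal.IsIntegral.comap_ne_bot A hP')
    have hmax : P'.IsMaximal :=
      Ideal.isMaximal_of_isIntegral_of_isMaximal_comap P' this
    rw [← Ideal.map_comap_of_surjective e.symm.toRingHom e.symm.surjective P]
    exact Ideal.map_isMaximal_of_equiv e.symm (p := P')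
  haveI : Q.asIdeal.IsPrime := Q.2
  have hQ0 : Q.asIdeal ≠ ⊥ := by
    intro h0
    have hx : IsClosed ({g.fromNormalization y} : Set X) := by
      simpa using g.fromNormalization.isClosedMap _ hy
    -- `y` generic forces `f y` generic
    have hgen : ∀ z ∈ V, y ⤳ z := by
      intro z hz
      have : Q ⤳ hV.primeIdealOf ⟨z, hz⟩ :=
        (PrimeSpectrum.le_iff_specializes _ _).mp (show Q.asIdeal ≤ _ by rw [h0]; exact bot_le)
      have := this.map hV.fromSpec.continuous
      rwa [hV.fromSpec_primeIdealOf, hV.fromSpec_primeIdealOf] at this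
    have hy' : ∀ z ∈ V, z = y := fun z hz => (hgen z hz).mem_closed hy rfl
    -- every point of `U` has a point of `V` over it
    have hU' : ∀ x ∈ U, x = g.fromNormalization y := by
      intro x hx
      letI : Algebra A Γ(g.normalization, V) := (g.fromNormalization.app U).hom.toAlgebra
      have hsurj : Function.Surjective (PrimeSpectrum.comap (algebraMap A C)) :=
        haveI : FaithfulSMul A C := (faithfulSMul_iff_algebraMap_injective A C).mpr fun a b h =>
          hinj (congrArg Subtype.val h)
        Algebra.IsIntegral.comap_surjective A C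
      obtain ⟨p, hp⟩ := hsurj (hU.primeIdealOf ⟨x, hx⟩)
      let p' : PrimeSpectrum Γ(g.normalization, V) := PrimeSpectrum.comap e.toRingHom p
      have hz : g.fromNormalization (hV.fromSpec p') = x := by
        have h := congr($(IsAffineOpen.SpecMap_appLE_fromSpec g.fromNormalization hU hV (le_refl V)) p')
        rw [Scheme.Hom.comp_apply, Scheme.Hom.comp_apply] at h
        rw [← h]
        have h' : PrimeSpectrum.comap (g.fromNormalization.appLE U V le_rfl).hom p' =
            hU.primeIdealOf ⟨x, hx⟩ := by
          rw [← hp, ← Scheme.Hom.app_eq_appLE, g.fromNormalization_app hU, ← PrimeSpectrum.comap_comp_apply]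
          refine congrArg (fun r => PrimeSpectrum.comap r p) (RingHom.ext fun a => ?_)
          exact e.apply_symm_apply _
        change hU.fromSpec (PrimeSpectrum.comap _ p') = x
        rw [h']
        exact hU.fromSpec_primeIdealOf ⟨x, hx⟩
      rw [← hz, hy' (hV.fromSpec p') (SetLike.mem_coe.mp (hV.range_fromSpec.subset ⟨p', rfl⟩))]
    have hgx : genericPoint X = g.fromNormalization y := hU' _
      ((genericPoint_spec X).mem_open_set_iff U.isOpen |>.mpr (by simpa using ‹Nonempty U›))
    have h1 := hX _ (hgx ▸ hx)
    rw [show ringKrullDim (X.presheaf.stalk (genericPoint X)) = ringKrullDim X.functionField from rfl,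
      ringKrullDim_eq_zero_of_field] at h1
    exact zero_ne_one h1
  refine le_antisymm ?_ ?_
  · haveI : Ring.KrullDimLE 1 Γ(g.normalization, V) :=
      Ring.krullDimLE_one_iff_of_noZeroDivisors.mpr fun I h1 h2 => hC I h2 h1
    rw [IsLocalization.AtPrime.ringKrullDim_eq_height Q.asIdeal (g.normalization.presheaf.stalk y)]
    exact_mod_cast (Ideal.height_le_ringKrullDim_of_ne_top Q.2.ne_top).trans
      (Ring.krullDimLE_iff.mp inferInstance)
  · rw [IsLocalization.AtPrime.ringKrullDim_eq_height Q.asIdeal (g.normalization.presheaf.stalk y)]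
    have h1 : (⊥ : Ideal Γ(g.normalization, V)).height < Q.asIdeal.height :=
      Ideal.height_strict_mono_of_isPrime (bot_lt_iff_ne_bot.mpr hQ0)
    exact_mod_cast Order.one_le_iff_pos.mpr (lt_of_le_of_lt bot_le h1)

end Groth.Agent.FinIntClosure
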